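import Mathlib.CategoryTheory.Abelian.RightDerived
import Mathlib.CategoryTheory.Abelian.Injective.Resolution
import Mathlib.Algebra.Homology.ShortComplex.Abelian
import Mathlib.CategoryTheory.Abelian.Refinements

/-!
# Low degree vanishing is preserved by additive functors on complexes of injectives
-/

open CategoryTheory CategoryTheory.Limits
set_option backward.isDefEq.respectTransparency false

namespace DepthSupp

variable {C D : Type*} [Category* C] [Category* D] [Abelian C] [Abelian D]
  (K : CochainComplex C ℕ) [∀ i, Injective (K.X i)]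

/-- contracting data in low degrees -/
theorem exists_contraction : ∀ p : ℕ, (∀ i ≤ p, K.ExactAt i) →
    (∃ h : K.X (p + 1) ⟶ K.X p, ∃ g : K.X p ⟶ K.X (p - 1),
      K.d p (p + 1) ≫ h + g ≫ K.d (p - 1) p = 𝟙 (K.X p))
  | 0, hK => by
    have h0 := (K.exactAt_iff' 0 0 1 (by simp) (by simp)).1 (hK 0 le_rfl)
    have hz : (K.sc' 0 0 1).f ≫ 𝟙 (K.X 0) = 0 := by
      show K.d 0 0 ≫ _ = 0
      rw [K.shape 0 0 (by simp), zero_comp]
    have : Injective (K.sc' 0 0 1).X₂ := inferInstanceAs (Injective (K.X 0))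
    refine ⟨h0.descToInjective (𝟙 _) hz, 0, ?_⟩
    rw [zero_comp, add_zero]
    exact h0.comp_descToInjective (𝟙 _) hz
  | p + 1, hK => by
    obtain ⟨h, g, e⟩ := exists_contraction p fun i hi => hK i (by omega)
    have h1 := (K.exactAt_iff' p (p + 1) (p + 1 + 1) (by simp) (by simp)).1 (hK (p + 1) le_rfl)
    have hz : (K.sc' p (p + 1) (p + 1 + 1)).f ≫ (𝟙 (K.X (p + 1)) - h ≫ K.d p (p + 1)) = 0 := by
      show K.d p (p + 1) ≫ _ = 0
      have : K.d p (p + 1) ≫ h ≫ K.d p (p + 1) = K.d p (p + 1) := by
        have := congrArg (· ≫ K.d p (p + 1)) e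
        simpa [Preadditive.add_comp] using this
      rw [Preadditive.comp_sub, Category.comp_id, this, sub_self]
    refine ⟨h1.descToInjective _ hz, h, ?_⟩
    have := h1.comp_descToInjective _ hz
    show K.d (p + 1) (p + 1 + 1) ≫ _ + h ≫ K.d p (p + 1) = _
    erw [this]
    abel

theorem exactAt_map (G : C ⥤ D) [G.Additive] (n : ℕ) (hK : ∀ i < n, K.ExactAt i) (i : ℕ) (hi : i < n) :
    ((G.mapHomologicalComplex (ComplexShape.up ℕ)).obj K).ExactAt i := by
  obtain ⟨h, g, e⟩ := exists_contraction K i fun k hk => hK k (by omega)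
  rw [HomologicalComplex.exactAt_iff' _ (i - 1) i (i + 1) (by
      cases i
      · exact CochainComplex.prev_nat_zero
      · simp) (by simp)]
  rw [ShortComplex.exact_iff_exact_up_to_refinements]
  intro A x hx
  refine ⟨A, 𝟙 A, inferInstance, x ≫ G.map g, ?_⟩
  have hx' : x ≫ G.map (K.d i (i + 1)) = 0 := hx
  have := congrArg (fun t => x ≫ G.map t) e
  simp only [Functor.map_add, Functor.map_comp, Functor.map_id, Preadditive.comp_add, Category.comp_id] at this
  rw [← Category.assoc, hx', zero_comp, zero_add] at this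
  show 𝟙 A ≫ x = (x ≫ G.map g) ≫ G.map (K.d (i - 1) i)
  rw [Category.id_comp, Category.assoc, this, G.map_id]
  exact (Category.comp_id x).symm

end DepthSupp
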