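import Groth.Agent.DepthSupp.Supp
import Mathlib.Algebra.Homology.HomologySequence

/-!
# The sequence relating local cohomology sheaves and higher direct images from the open
-/

universe u

open CategoryTheory CategoryTheory.Limits AlgebraicGeometry

namespace DepthSupp

set_option backward.isDefEq.respectTransparency false
set_option backward.isDefEq.respectTransparency.types false

open Groth.Agent

variable {X U : Scheme.{u}} (j : U ⟶ X) [IsOpenImmersion j]

theorem injective_pull (I : EtCoh.Ab X) [Injective I] : Injective ((EtCoh.pull j).obj I) :=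
  have := EtMVLib.preservesMono_extZero j
  Injective.injective_of_adjoint (EtMVLib.shriekAdj j) I

/-- the unit is split epi on injectives -/
theorem isSplitEpi_unitApp (I : EtCoh.Ab X) [Injective I] : IsSplitEpi (EtDual.unitApp j I) := by
  let P := (EtCoh.push j).obj ((EtCoh.pull j).obj I)
  let c : (EtCoh.pull j).obj P ⟶ (EtCoh.pull j).obj I := (EtCoh.pullPushAdj j).counit.app _
  have := mono_cu j P
  have : Injective ((𝟭 (EtCoh.Ab X)).obj I) := ‹Injective I›
  let φ : P ⟶ I := Injective.factorThru ((EtShriek.extZero j).map c ≫ cu j I) (cu j P)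
  refine IsSplitEpi.mk' ⟨φ, ?_⟩
  have h : (EtCoh.pull j).map φ = c := by
    apply ((EtMVLib.shriekAdj j).homEquiv _ _).symm.injective
    rw [Adjunction.homEquiv_counit, Adjunction.homEquiv_counit]
    exact ((EtMVLib.shriekAdj j).counit.naturality φ).trans (Injective.comp_factorThru _ _)
  refine ((EtCoh.pullPushAdj j).unit.naturality φ).trans ?_
  show _ ≫ (EtCoh.push j).map ((EtCoh.pull j).map φ) = _
  rw [h]
  exact (EtCoh.pullPushAdj j).right_triangle_components _

variable {F : EtCoh.Ab X} (I : InjectiveResolution F)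

/-- the restricted resolution -/
noncomputable def pullRes : InjectiveResolution ((EtCoh.pull j).obj F) :=
  have := EtFound.pull_preservesFiniteLimits j
  { cocomplex := ((EtCoh.pull j).mapHomologicalComplex (ComplexShape.up ℕ)).obj I.cocomplex
    injective := fun n => injective_pull j (I.cocomplex.X n)
    ι := ((HomologicalComplex.singleMapHomologicalComplex (EtCoh.pull j) (ComplexShape.up ℕ) 0).app F).inv ≫
      ((EtCoh.pull j).mapHomologicalComplex (ComplexShape.up ℕ)).map I.ι }

/-- `0 → Γ_Y I → I → j_* j^{-1} I → 0` -/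
noncomputable def suppSeq : ShortComplex (CochainComplex (EtCoh.Ab X) ℕ) :=
  ShortComplex.mk
    ({ f := fun p => kernel.ι (EtDual.unitApp j (I.cocomplex.X p))
       comm' := fun p q _ => by simp } :
      ((EtDual.secSupp j).mapHomologicalComplex (ComplexShape.up ℕ)).obj I.cocomplex ⟶ I.cocomplex)
    ({ f := fun p => EtDual.unitApp j (I.cocomplex.X p)
       comm' := fun p q _ => ((EtCoh.pullPushAdj j).unit.naturality (I.cocomplex.d p q)).symm } :
      I.cocomplex ⟶ ((EtCoh.push j).mapHomologicalComplex (ComplexShape.up ℕ)).obj (pullRes j I).cocomplex)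
    (by
      refine HomologicalComplex.hom_ext _ _ fun p => ?_
      exact kernel.condition (EtDual.unitApp j (I.cocomplex.X p)))

theorem suppSeq_shortExact : (suppSeq j I).ShortExact := by
  refine HomologicalComplex.shortExact_of_degreewise_shortExact _ fun p => ?_
  have := isSplitEpi_unitApp j (I.cocomplex.X p)
  exact ShortComplex.ShortExact.mk' (ShortComplex.exact_of_f_is_kernel _ (kernelIsKernel _))
    (inferInstanceAs (Mono (kernel.ι _))) (inferInstanceAs (Epi (EtDual.unitApp j (I.cocomplex.X p))))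

theorem isZero_homology_res (p : ℕ) : IsZero (I.cocomplex.homology (p + 1)) :=
  (I.cocomplex_exactAt_succ p).isZero_homology

include I in
theorem locCoh_succ_iso_Rpush (p : ℕ) (hp : 1 ≤ p) :
    Nonempty ((EtCoh.Rpush j p).obj ((EtCoh.pull j).obj F) ≅ (EtDual.locCoh j (p + 1)).obj F) := by
  obtain ⟨q, rfl⟩ : ∃ q, p = q + 1 := ⟨p - 1, by omega⟩
  refine ⟨(pullRes j I).isoRightDerivedObj (EtCoh.push j) (q + 1) ≪≫ ?_ ≪≫
    (I.isoRightDerivedObj (EtDual.secSupp j) (q + 1 + 1)).symm⟩
  exact (suppSeq_shortExact j I).δIso (q + 1) (q + 1 + 1) rfl (isZero_homology_res I q)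
    (isZero_homology_res I (q + 1))

theorem isIso_liftCycles_zero {A : Type*} [Category* A] [Abelian A] (K : CochainComplex A ℕ) {P : A}
    (a : P ⟶ K.X 0) (ha : a ≫ K.d 0 1 = 0) (h : IsLimit (KernelFork.ofι a ha)) :
    IsIso (K.liftCycles a 1 (by simp) ha) := by
  let e := IsLimit.conePointUniqueUpToIso h (K.cyclesIsKernel 0 1 (by simp))
  have : K.liftCycles a 1 (by simp) ha = e.hom := by
    rw [← cancel_mono (K.iCycles 0), HomologicalComplex.liftCycles_i]
    exact (IsLimit.conePointUniqueUpToIso_hom_comp h (K.cyclesIsKernel 0 1 (by simp))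
      WalkingParallelPair.zero).symm
  rw [this]
  infer_instance

include I in
theorem locCoh_one_iso_cokernel :
    Nonempty (cokernel (EtDual.unitApp j F) ≅ (EtDual.locCoh j 1).obj F) := by
  have := EtFound.pull_preservesFiniteLimits j
  have : PreservesLimitsOfSize.{0, 0} (EtCoh.push j) := (EtCoh.pullPushAdj j).rightAdjoint_preservesLimits
  let S := suppSeq j I
  have hS := suppSeq_shortExact j I
  let a : F ⟶ S.X₂.X 0 := I.ι.f 0
  have ha : a ≫ S.X₂.d 0 1 = 0 := I.ι_f_zero_comp_complex_d
  let b : (EtCoh.push j).obj ((EtCoh.pull j).obj F) ⟶ S.X₃.X 0 :=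
    (EtCoh.push j).map ((EtCoh.pull j).map a)
  have hb : b ≫ S.X₃.d 0 1 = 0 := by
    show (EtCoh.pull j ⋙ EtCoh.push j).map a ≫ (EtCoh.pull j ⋙ EtCoh.push j).map (I.cocomplex.d 0 1) = 0
    rw [← Functor.map_comp]
    exact ((EtCoh.pull j ⋙ EtCoh.push j).congr_map ha).trans ((EtCoh.pull j ⋙ EtCoh.push j).map_zero _ _)
  have : IsIso (S.X₂.liftCycles a 1 (by simp) ha) :=
    isIso_liftCycles_zero S.X₂ a ha I.isLimitKernelFork
  have : IsIso (S.X₃.liftCycles b 1 (by simp) hb) :=
    isIso_liftCycles_zero S.X₃ b hb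
      (isLimitForkMapOfIsLimit' (EtCoh.pull j ⋙ EtCoh.push j) I.ι_f_zero_comp_complex_d I.isLimitKernelFork)
  let g₀ := HomologicalComplex.homologyMap S.g 0
  have hπ : ∀ K : CochainComplex (EtCoh.Ab X) ℕ, IsIso (K.homologyπ 0) := fun K =>
    K.isIso_homologyπ 0 0 (by simp) (by simp)
  have := hπ S.X₂
  have := hπ S.X₃
  let e₂ := asIso (S.X₂.liftCycles a 1 (by simp) ha ≫ S.X₂.homologyπ 0)
  let e₃ := asIso (S.X₃.liftCycles b 1 (by simp) hb ≫ S.X₃.homologyπ 0)
  have comm : EtDual.unitApp j F ≫ e₃.hom = e₂.hom ≫ g₀ := by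
    simp only [e₂, e₃, g₀, asIso_hom, Category.assoc, HomologicalComplex.homologyπ_naturality]
    simp only [← Category.assoc]
    refine congrArg (· ≫ _) ?_
    rw [← cancel_mono (S.X₃.iCycles 0)]
    simp only [Category.assoc, HomologicalComplex.cyclesMap_i, HomologicalComplex.liftCycles_i,
      HomologicalComplex.liftCycles_i_assoc]
    exact ((EtCoh.pullPushAdj j).unit.naturality a).symm
  have hex := hS.homology_exact₃ 0 1 rfl
  have hepi : Epi (hS.δ 0 1 rfl) := hS.epi_δ 0 1 rfl (isZero_homology_res I 0)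
  exact ⟨cokernel.mapIso _ _ e₂ e₃ comm ≪≫
    (colimit.isoColimitCocone ⟨_, hex.gIsCokernel⟩) ≪≫
    (I.isoRightDerivedObj (EtDual.secSupp j) 1).symm⟩

end DepthSupp
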