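import Groth.Prelude.Def_EtDual
import Groth.Prelude.Def_EtDepth
import Groth.Agent.EtFound.AbRecollement
import Groth.Agent.EtMVLib.OpenSeq
import Groth.Agent.DepthSupp.Cx

/-!
# Sections with support and injective sheaves; monotonicity of depth in the closed subset
-/

universe u

open CategoryTheory CategoryTheory.Limits AlgebraicGeometry

namespace DepthSupp

set_option backward.isDefEq.respectTransparency false
set_option backward.isDefEq.respectTransparency.types false

variable {X U : Scheme.{u}} (j : U ⟶ X) [IsOpenImmersion j] [EtCoh.BCCont j]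

open Groth.Agent

/-- `j_! j^{-1} A ⟶ A` -/
noncomputable abbrev cu (A : EtCoh.Ab X) : (EtShriek.extZero j).obj ((EtCoh.pull j).obj A) ⟶ A :=
  (EtMVLib.shriekAdj j).counit.app A

theorem isIso_stalk_cu {Ω : Type u} [Field Ω] [IsSepClosed Ω] (ξ : Spec (CommRingCat.of Ω) ⟶ X)
    (hξ : ξ.base (default : Spec (CommRingCat.of Ω)) ∈ Set.range j.base) (A : EtCoh.Ab X) :
    IsIso ((EtCoh.stalk ξ).map (cu j A)) := by
  have e : cu j A = (EtShriek.extZero j).map ((EtMVLib.restrIsoPull j).inv.app A) ≫
      (EtShriek.extZeroAdj j).counit.app A := by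
    simp [cu, EtMVLib.shriekAdj, Adjunction.ofNatIsoRight, Adjunction.mkOfHomEquiv,
      Adjunction.equivHomsetRightOfNatIso, Adjunction.homEquiv_counit]
  rw [e, Functor.map_comp]
  have := EtFound.isIso_stalk_of_lift j ((EtShriek.extZeroAdj j).counit.app A) ξ hξ
    fun k _ _ z => EtFound.isIso_counit_stalk j z A
  infer_instance

theorem mono_cu (A : EtCoh.Ab X) : Mono (cu j A) := by
  refine (EtFound.mono_iff_stalks _).2 fun Ω _ _ ξ => ?_
  refine (AddCommGrpCat.mono_iff_injective _).1 ?_
  by_cases hξ : ξ.base (default : Spec (CommRingCat.of Ω)) ∈ Set.range j.base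
  · have := isIso_stalk_cu j ξ hξ A
    infer_instance
  · exact (EtFound.isZero_stalk_extZero j ξ hξ _).mono _

/-- the part of `A` outside the open -/
noncomputable abbrev Q (A : EtCoh.Ab X) : EtCoh.Ab X := cokernel (cu j A)

noncomputable abbrev Qmap {A B : EtCoh.Ab X} (m : A ⟶ B) : Q j A ⟶ Q j B :=
  cokernel.map _ _ ((EtShriek.extZero j).map ((EtCoh.pull j).map m)) m
    ((EtMVLib.shriekAdj j).counit.naturality m).symm

theorem mono_Qmap {A B : EtCoh.Ab X} (m : A ⟶ B) [Mono m] : Mono (Qmap j m) := by
  refine (EtFound.mono_iff_stalks _).2 fun Ω _ _ ξ => ?_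
  refine (AddCommGrpCat.mono_iff_injective _).1 ?_
  by_cases hξ : ξ.base (default : Spec (CommRingCat.of Ω)) ∈ Set.range j.base
  · refine IsZero.mono ?_ _
    rw [IsZero.iff_id_eq_zero]
    have := isIso_stalk_cu j ξ hξ A
    have h : (EtCoh.stalk ξ).map (cokernel.π (cu j A)) = 0 := by
      rw [← cancel_epi ((EtCoh.stalk ξ).map (cu j A)), comp_zero, ← Functor.map_comp, cokernel.condition,
        Functor.map_zero]
    rw [← cancel_epi ((EtCoh.stalk ξ).map (cokernel.π (cu j A))), h, comp_zero, zero_comp]
  · have key : ∀ C : EtCoh.Ab X, IsIso ((EtCoh.stalk ξ).map (cokernel.π (cu j C))) := fun C => by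
      have h0 : (EtCoh.stalk ξ).map (cu j C) = 0 :=
        (EtFound.isZero_stalk_extZero j ξ hξ _).eq_of_src _ _
      rw [← π_comp_cokernelComparison (cu j C) (EtCoh.stalk ξ)]
      have : IsIso (cokernel.π ((EtCoh.stalk ξ).map (cu j C))) := by
        have e : cokernel.π ((EtCoh.stalk ξ).map (cu j C)) ≫ (cokernel.desc _ (𝟙 _) (by rw [h0, zero_comp])) = 𝟙 _ :=
          cokernel.π_desc _ _ _
        exact ⟨cokernel.desc _ (𝟙 _) (by rw [h0, zero_comp]), e, by
          rw [← cancel_epi (cokernel.π ((EtCoh.stalk ξ).map (cu j C))), ← Category.assoc, e, Category.id_comp,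
            Category.comp_id]⟩
      infer_instance
    have := key A
    have := key B
    have e : (EtCoh.stalk ξ).map (cokernel.π (cu j A)) ≫ (EtCoh.stalk ξ).map (Qmap j m) =
        (EtCoh.stalk ξ).map m ≫ (EtCoh.stalk ξ).map (cokernel.π (cu j B)) := by
      rw [← Functor.map_comp, ← Functor.map_comp, cokernel.π_desc]
    have e' := (IsIso.eq_inv_comp _).2 e
    rw [e']
    infer_instance

theorem comp_cu_eq_zero_iff {A B : EtCoh.Ab X} (φ : A ⟶ B) :
    cu j A ≫ φ = 0 ↔ (EtCoh.pull j).map φ = 0 := by
  have := (EtMVLib.shriekAdj j).left_adjoint_additive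
  erw [← (EtMVLib.shriekAdj j).counit.naturality φ]
  constructor
  · intro h
    apply ((EtMVLib.shriekAdj j).homEquiv _ _).symm.injective
    rw [Adjunction.homEquiv_counit, Adjunction.homEquiv_counit]
    simpa using h
  · intro h
    simp [h]

theorem comp_unitApp_eq_zero_iff {A B : EtCoh.Ab X} (φ : A ⟶ B) :
    φ ≫ EtDual.unitApp j B = 0 ↔ (EtCoh.pull j).map φ = 0 := by
  constructor
  · intro h
    have := congrArg (fun t => (EtCoh.pull j).map t) h
    simp only [Functor.map_comp, Functor.map_zero] at this
    have e := (EtCoh.pullPushAdj j).left_triangle_components B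
    have := congrArg (· ≫ (EtCoh.pullPushAdj j).counit.app ((EtCoh.pull j).obj B)) this
    simp only [Category.assoc, zero_comp] at this
    erw [e, Category.comp_id] at this
    exact this
  · intro h
    refine ((EtCoh.pullPushAdj j).unit.naturality φ).trans ?_
    simp [h]

theorem injective_secSupp (I : EtCoh.Ab X) [Injective I] : Injective ((EtDual.secSupp j).obj I) := by
  refine ⟨fun {A B} g f hf => ?_⟩
  have hz : cu j A ≫ g ≫ kernel.ι (EtDual.unitApp j I) = 0 := by
    rw [comp_cu_eq_zero_iff, ← comp_unitApp_eq_zero_iff, Category.assoc, kernel.condition, comp_zero]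
  have := mono_Qmap j f
  let ψ : Q j B ⟶ I := Injective.factorThru (cokernel.desc _ _ hz) (Qmap j f)
  refine ⟨kernel.lift _ (cokernel.π (cu j B) ≫ ψ) ?_, ?_⟩
  · rw [comp_unitApp_eq_zero_iff, ← comp_cu_eq_zero_iff, ← Category.assoc, cokernel.condition, zero_comp]
  · apply (cancel_mono (kernel.ι (EtDual.unitApp j I))).1
    rw [Category.assoc, kernel.lift_ι, ← Category.assoc,
      ← cokernel.π_desc (cu j A) (f ≫ cokernel.π (cu j B)), Category.assoc]
    show cokernel.π (cu j A) ≫ Qmap j f ≫ ψ = _
    rw [Injective.comp_factorThru, cokernel.π_desc]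

omit [IsOpenImmersion j] in
theorem isZero_locCoh_of_exact (F : EtCoh.Ab X) (p : ℕ) (I : InjectiveResolution F) :
    IsZero ((EtDual.locCoh j p).obj F) ↔
      (((EtDual.secSupp j).mapHomologicalComplex _).obj I.cocomplex).ExactAt p := by
  rw [HomologicalComplex.exactAt_iff_isZero_homology]
  exact (I.isoRightDerivedObj (EtDual.secSupp j) p).isZero_iff

variable {V : Scheme.{u}} (k : V ⟶ X) [IsOpenImmersion k] [EtCoh.BCCont k]

/-- `Γ_{Y_k} Γ_{Y_j} = Γ_{Y_k}` for `Y_k ⊆ Y_j` -/
noncomputable def suppCompIso (hUV : Set.range j.base ⊆ Set.range k.base) :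
    EtDual.secSupp j ⋙ EtDual.secSupp k ≅ EtDual.secSupp k :=
  NatIso.ofComponents (fun F => {
    hom := (EtDual.secSupp k).map (kernel.ι (EtDual.unitApp j F))
    inv := kernel.lift _ (kernel.lift _ (kernel.ι (EtDual.unitApp k F)) (by
        rw [comp_unitApp_eq_zero_iff]
        have h := (comp_unitApp_eq_zero_iff k (kernel.ι (EtDual.unitApp k F))).1 (kernel.condition _)
        let e := EtMVLib.θ k j (IsOpenImmersion.lift k j hUV) (IsOpenImmersion.lift_fac k j hUV)
        have n := e.hom.naturality (kernel.ι (EtDual.unitApp k F))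
        simp only [Functor.comp_map, h, Functor.map_zero, zero_comp] at n
        rw [← cancel_epi (e.hom.app _), comp_zero]
        exact n.symm)) (by
      rw [comp_unitApp_eq_zero_iff]
      have h := (comp_unitApp_eq_zero_iff k (kernel.ι (EtDual.unitApp k F))).1 (kernel.condition _)
      have := congrArg (fun t => (EtCoh.pull k).map t)
        (kernel.lift_ι (EtDual.unitApp j F) (kernel.ι (EtDual.unitApp k F)) (by
          rw [comp_unitApp_eq_zero_iff]
          let e := EtMVLib.θ k j (IsOpenImmersion.lift k j hUV) (IsOpenImmersion.lift_fac k j hUV)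
          have n := e.hom.naturality (kernel.ι (EtDual.unitApp k F))
          simp only [Functor.comp_map, h, Functor.map_zero, zero_comp] at n
          rw [← cancel_epi (e.hom.app _), comp_zero]
          exact n.symm))
      simp only [Functor.map_comp, h] at this
      have hk' := EtFound.pull_preservesFiniteLimits k
      exact (cancel_mono ((EtCoh.pull k).map (kernel.ι (EtDual.unitApp j F)))).1 (this.trans zero_comp.symm))
    hom_inv_id := by
      apply (cancel_mono (kernel.ι _)).1
      apply (cancel_mono (kernel.ι _)).1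
      simp
    inv_hom_id := by
      apply (cancel_mono (kernel.ι _)).1
      simp })
    (fun {F G} f => by
      apply (cancel_mono (kernel.ι _)).1
      simp)

theorem depthGE_mono (hUV : Set.range j.base ⊆ Set.range k.base) (F : EtCoh.Ab X) (n : ℕ)
    (h : EtDepth.DepthGE j F n) : EtDepth.DepthGE k F n := by
  intro p hp
  let I := InjectiveResolution.of F
  let K := ((EtDual.secSupp j).mapHomologicalComplex (ComplexShape.up ℕ)).obj I.cocomplex
  have : ∀ i, Injective (K.X i) := fun i => injective_secSupp j (I.cocomplex.X i)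
  have hex := exactAt_map K (EtDual.secSupp k) n
    (fun i hi => (isZero_locCoh_of_exact j F i I).1 (h i hi)) p hp
  rw [isZero_locCoh_of_exact k F p I]
  exact HomologicalComplex.ExactAt.of_iso hex
    ((NatIso.mapHomologicalComplex (suppCompIso j k hUV) (ComplexShape.up ℕ)).app I.cocomplex)

end DepthSupp
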